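import Mathlib
import Cfsg.Agent.Lib.Helper95.BRA.Defs
import Cfsg.Agent.Lib.Helper74.FrobSchur
import Cfsg.Agent.Lib.Helper80.CharOps
import Cfsg.Agent.Lib.Helper80.Orthogonality

/-!
# BRA (S4484): package [Mat]

A unitary matrix representation affording a nonprincipal irreducible character has no nonzero
fixed vector.
-/

set_option autoImplicit false

open scoped Matrix ComplexConjugate

namespace Cfsg.Agent.Lib.Helper83.BRA

open Cfsg Cfsg.Agent.Lib.Helper95.BRA

universe u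

/-- **[Mat]** -/
theorem pkgMat : PkgMat.{u} := by
  intro G _ _ χ hχ hne
  classical
  haveI := Fintype.ofFinite G
  have hχc := Lib.Helper80.isCharacter_of_isIrrCharacter hχ
  obtain ⟨n, ρ, hρ⟩ := hχc
  have hM : ∀ g, χ g = (Lib.Helper74.matHom ρ (Pi.basisFun ℂ (Fin n)) g).trace := fun g => by
    rw [← hρ]; exact Lib.Helper74.character_eq_trace ρ (Pi.basisFun ℂ (Fin n)) g
  obtain ⟨U, hUu, hUtr⟩ := Lib.Helper74.Jordan.exists_unitary_hom
    (Lib.Helper74.matHom ρ (Pi.basisFun ℂ (Fin n)))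
  have hχU : ∀ g, (U g).trace = χ g := fun g => by rw [hM, hUtr]
  refine ⟨n, U, hUu, hχU, ?_⟩
  have hcard : (Nat.card G : ℂ) ≠ 0 := by exact_mod_cast (Nat.card_pos (α := G)).ne'
  have hsum : ∑ g : G, χ g = 0 := by
    have h1 := Lib.Helper80.classInner_irr_fun hχ (Lib.Helper80.isIrrCharacter_one (G := G))
    rw [if_neg hne] at h1
    unfold Cfsg.classInner at h1
    have h2 := (mul_eq_zero.1 h1).resolve_left (inv_ne_zero hcard)
    simpa using h2
  have hS1 : ∀ h : G, U h * ∑ g : G, U g = ∑ g : G, U g := by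
    intro h
    rw [Finset.mul_sum]
    simp_rw [← map_mul]
    exact Fintype.sum_equiv (Equiv.mulLeft h) _ _ (fun g => rfl)
  have hUinv : ∀ g : G, (U g)ᴴ = U g⁻¹ := by
    intro g
    have h2 : U g * U g⁻¹ = 1 := by rw [← map_mul, mul_inv_cancel, map_one]
    calc (U g)ᴴ = (U g)ᴴ * (U g * U g⁻¹) := by rw [h2, mul_one]
      _ = ((U g)ᴴ * U g) * U g⁻¹ := by rw [mul_assoc]
      _ = U g⁻¹ := by rw [hUu, one_mul]
  have hSH : (∑ g : G, U g)ᴴ = ∑ g : G, U g := by
    rw [Matrix.conjTranspose_sum]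
    simp_rw [hUinv]
    exact Fintype.sum_equiv (Equiv.inv G) _ _ (fun g => rfl)
  have hSS : (∑ g : G, U g) * (∑ g : G, U g) = (Nat.card G : ℂ) • ∑ g : G, U g := by
    rw [Finset.sum_mul]
    simp_rw [hS1]
    rw [Finset.sum_const, Finset.card_univ, Nat.card_eq_fintype_card, Nat.cast_smul_eq_nsmul]
  have hStr : (∑ g : G, U g).trace = 0 := by
    rw [Matrix.trace_sum]
    simp_rw [hχU]
    exact hsum
  have hS0 : ∑ g : G, U g = 0 := by
    apply Lib.Helper74.Jordan.fn_eq_zero.1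
    have h1 := Lib.Helper74.Jordan.trace_conjTranspose_mul_self (∑ g : G, U g)
    rw [hSH, hSS, Matrix.trace_smul, hStr, smul_zero] at h1
    exact_mod_cast h1.symm
  intro v hv
  have h3 : (∑ g : G, U g) *ᵥ v = (Nat.card G : ℂ) • v := by
    rw [Matrix.sum_mulVec]
    simp_rw [hv]
    rw [Finset.sum_const, Finset.card_univ, Nat.card_eq_fintype_card, Nat.cast_smul_eq_nsmul]
  rw [hS0, Matrix.zero_mulVec] at h3
  exact (smul_eq_zero.1 h3.symm).resolve_left hcard

end Cfsg.Agent.Lib.Helper83.BRA
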